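import Mathlib
import Cfsg.Agent.S3370

/-!
Prime powers next to powers of two.
-/

set_option autoImplicit false

namespace Cfsg.Agent.H70.Eppo

/-- A number is one or a prime power. -/
def PP (n : ℕ) : Prop := n = 1 ∨ IsPrimePow n

theorem PP.of_dvd {a b : ℕ} (h : IsPrimePow b) (hd : a ∣ b) : PP a := by
  rcases eq_or_ne a 1 with ha | ha
  · exact Or.inl ha
  · exact Or.inr (h.dvd hd ha)

theorem PP.eq_of_dvd {n p r : ℕ} (h : PP n) (hp : p.Prime) (hr : r.Prime) (hpn : p ∣ n) (hrn : r ∣ n) :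
    p = r := by
  rcases h with rfl | h
  · exact absurd hpn hp.not_dvd_one
  · obtain ⟨s, -, hs⟩ := isPrimePow_iff_unique_prime_dvd.1 h
    exact (hs p ⟨hp, hpn⟩).trans (hs r ⟨hr, hrn⟩).symm

theorem exists_pow_of_prime_dvd {n p : ℕ} (h : PP n) (hp : p.Prime) (hpn : p ∣ n) :
    ∃ a, 1 ≤ a ∧ n = p ^ a := by
  rcases h with rfl | h
  · exact absurd hpn hp.not_dvd_one
  · obtain ⟨r, k, hr, hk, rfl⟩ := (isPrimePow_nat_iff n).1 h
    exact ⟨k, hk, by rw [(Nat.prime_dvd_prime_iff_eq hp hr).1 (hp.dvd_of_dvd_pow hpn)]⟩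

/-- `2^(2j) - 1` is a prime power only for `j = 1`. -/
theorem even_sub_one {j : ℕ} (hj : 1 ≤ j) (h : PP (2 ^ (2 * j) - 1)) : j = 1 := by
  by_contra hne
  have h4 : 2 ^ 2 ≤ 2 ^ j := Nat.pow_le_pow_right (by norm_num) (by omega)
  have hev : 2 ∣ 2 ^ j := dvd_pow_self 2 (by omega)
  have hprod : (2 ^ j + 1) * (2 ^ j - 1) = 2 ^ (2 * j) - 1 := by
    rw [← Nat.sq_sub_sq, one_pow, ← pow_mul, mul_comm]
  obtain ⟨p, hp, hpd⟩ := Nat.exists_prime_and_dvd (n := 2 ^ j + 1) (by omega)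
  obtain ⟨r, hr, hrd⟩ := Nat.exists_prime_and_dvd (n := 2 ^ j - 1) (by omega)
  have he := h.eq_of_dvd hp hr (hprod ▸ hpd.mul_right _) (hprod ▸ hrd.mul_left _)
  subst he
  have h2 : p ∣ 2 := by
    have := Nat.dvd_sub hpd hrd
    rwa [show 2 ^ j + 1 - (2 ^ j - 1) = 2 by omega] at this
  obtain rfl := (Nat.prime_dvd_prime_iff_eq hp Nat.prime_two).1 h2
  omega

theorem three_dvd_odd {k : ℕ} (hk : Odd k) : 3 ∣ 2 ^ k + 1 := by
  obtain ⟨j, rfl⟩ := hk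
  rw [Nat.dvd_iff_mod_eq_zero, Nat.add_mod, pow_succ, pow_mul, Nat.mul_mod, Nat.pow_mod]
  norm_num

theorem three_dvd_even {k : ℕ} (hk : Even k) : 3 ∣ 2 ^ k - 1 := by
  obtain ⟨j, rfl⟩ := hk
  have h1 : 2 ^ (j + j) % 3 = 1 := by
    rw [← two_mul, pow_mul, Nat.pow_mod]
    norm_num
  omega

/-- `2^k + 1` is a power of three only for `k ∈ {1, 3}`, `k` odd. -/
theorem odd_add_one {k : ℕ} (hk : Odd k) (h : PP (2 ^ k + 1)) : k = 1 ∨ k = 3 := by
  obtain ⟨a, ha, hak⟩ := exists_pow_of_prime_dvd h Nat.prime_three (three_dvd_odd hk)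
  rcases S3370.catalan_odd (le_refl 3) (by decide) ha hak.symm with rfl | ⟨-, rfl⟩
  · left
    rw [pow_one] at hak
    exact Nat.pow_right_injective le_rfl (show 2 ^ k = 2 ^ 1 by omega)
  · right
    exact Nat.pow_right_injective le_rfl (show 2 ^ k = 2 ^ 3 by omega)

/-- `2^n ± 1` both prime powers. -/
theorem both_two_pow {n : ℕ} (hn : 2 ≤ n) (h1 : PP (2 ^ n - 1)) (h2 : PP (2 ^ n + 1)) :
    n = 2 ∨ n = 3 := by
  rcases Nat.even_or_odd n with ⟨j, rfl⟩ | hodd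
  · rw [← two_mul] at h1
    have := even_sub_one (by omega) h1
    omega
  · rcases odd_add_one hodd h2 with h | h <;> omega

/-- A Fermat prime `2^k + 1` with `2^(k-1) + 1` a prime power. -/
theorem fermat {k : ℕ} (hp : (2 ^ k + 1).Prime) (h : PP (2 ^ (k - 1) + 1)) :
    k ≤ 2 ∨ k = 4 := by
  rcases Nat.lt_or_ge k 3 with hk | hk
  · omega
  rcases Nat.even_or_odd k with ⟨j, rfl⟩ | hodd
  · rcases odd_add_one (k := j + j - 1) ⟨j - 1, by omega⟩ h with h' | h' <;> omega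
  · exfalso
    have := (Nat.prime_dvd_prime_iff_eq Nat.prime_three hp).1 (three_dvd_odd hodd)
    have : 2 ^ 3 ≤ 2 ^ k := Nat.pow_le_pow_right (by norm_num) hk
    omega

/-- A Mersenne prime `2^k - 1` with `2^(k-1) - 1` a prime power. -/
theorem mersenne {k : ℕ} (hp : (2 ^ k - 1).Prime) (h : PP (2 ^ (k - 1) - 1)) : k = 2 ∨ k = 3 := by
  rcases Nat.lt_or_ge k 3 with hk | hk
  · interval_cases k
    · norm_num at hp
    · norm_num at hp
    · exact Or.inl rfl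
  right
  rcases Nat.even_or_odd k with heven | ⟨j, rfl⟩
  · exfalso
    have := (Nat.prime_dvd_prime_iff_eq Nat.prime_three hp).1 (three_dvd_even heven)
    have : 2 ^ 3 ≤ 2 ^ k := Nat.pow_le_pow_right (by norm_num) hk
    omega
  · rw [show 2 * j + 1 - 1 = 2 * j by omega] at h
    have := even_sub_one (by omega) h
    omega

/-- A power of five minus one is divisible by few powers of two. -/
theorem five_pow {m a : ℕ} (hm : 1 ≤ m) (hd : 2 ^ (m + 1) ∣ 5 ^ a - 1) : 2 ^ (m - 1) ∣ a := by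
  have h1 : (5 : ZMod (2 ^ (m - 1 + 2))) ^ a = 1 := by
    rw [show m - 1 + 2 = m + 1 by omega]
    obtain ⟨c, hc⟩ := hd
    have h5 : 5 ^ a = 2 ^ (m + 1) * c + 1 := by
      have := Nat.one_le_pow a 5 (by norm_num)
      omega
    have h6 := congrArg (Nat.cast : ℕ → ZMod (2 ^ (m + 1))) h5
    rw [Nat.cast_add, Nat.cast_mul, ZMod.natCast_self, zero_mul, zero_add, Nat.cast_pow,
      Nat.cast_one] at h6
    exact_mod_cast h6
  rw [← ZMod.orderOf_five (m - 1)]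
  exact orderOf_dvd_of_pow_eq_one h1

/-- The torus orders of a Suzuki group are prime powers only for `q ∈ {8, 32}`. -/
theorem suzuki {m : ℕ} (hm : 1 ≤ m) (h1 : PP (2 ^ (2 * m + 1) + 2 ^ (m + 1) + 1))
    (h2 : PP (2 ^ (2 * m + 1) - 2 ^ (m + 1) + 1)) : m = 1 ∨ m = 2 := by
  by_contra hne
  have hm3 : 3 ≤ m := by omega
  have hY : 2 ^ (2 * m + 1) = 2 ^ (m + 1) * 2 ^ m := by rw [← pow_add]; congr 1; omega
  have hle : 2 ^ (m + 1) ≤ 2 ^ (2 * m + 1) := Nat.pow_le_pow_right (by norm_num) (by omega)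
  set A := 2 ^ (2 * m + 1) + 2 ^ (m + 1) + 1 with hA
  set B := 2 ^ (2 * m + 1) - 2 ^ (m + 1) + 1 with hB
  have hAB : A * B = 4 ^ (2 * m + 1) + 1 := by
    obtain ⟨d, hd⟩ := Nat.le.dest hle
    rw [hA, hB, show (4 : ℕ) ^ (2 * m + 1) = 2 ^ (2 * m + 1) * 2 ^ (2 * m + 1) by
      rw [← mul_pow]; norm_num]
    have hsq : 2 ^ (m + 1) * 2 ^ (m + 1) = 2 * 2 ^ (2 * m + 1) := by
      rw [← pow_add, ← pow_succ']; congr 1; omega
    have hd' : 2 ^ (2 * m + 1) - 2 ^ (m + 1) = d := by omega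
    rw [hd', ← hd]
    rw [← hd] at hsq
    nlinarith
  have h5 : 5 ∣ A * B := by
    rw [hAB, Nat.dvd_iff_mod_eq_zero, Nat.add_mod, pow_succ, pow_mul, Nat.mul_mod, Nat.pow_mod]
    norm_num
  have hsmall : ∀ a, 2 ^ (m + 1) ∣ 5 ^ a - 1 → 1 ≤ a → 5 ^ a < 2 ^ (2 * m + 2) → False := by
    intro a hd ha hlt
    have h3 := Nat.le_of_dvd ha (five_pow hm hd)
    have h4 : 4 ^ a < 4 ^ (m + 1) := by
      calc 4 ^ a ≤ 5 ^ a := Nat.pow_le_pow_left (by norm_num) a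
        _ < 2 ^ (2 * m + 2) := hlt
        _ = 4 ^ (m + 1) := by rw [show 2 * m + 2 = 2 * (m + 1) by ring, pow_mul]; norm_num
    have h5 := (Nat.pow_lt_pow_iff_right (by norm_num : 1 < 4)).1 h4
    have h6 : m - 1 + 1 ≤ 2 ^ (m - 1) := Nat.lt_two_pow_self
    have h7 : m + 1 ≤ 2 ^ (m - 1) := by
      obtain ⟨i, rfl⟩ : ∃ i, m = i + 3 := ⟨m - 3, by omega⟩
      have : i + 1 ≤ 2 ^ i := Nat.lt_two_pow_self
      rw [show i + 3 - 1 = i + 2 by omega, pow_add]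
      omega
    omega
  have hlt1 : 2 ^ (2 * m + 1) + 2 ^ (m + 1) + 1 < 2 ^ (2 * m + 2) := by
    have : 2 ^ (m + 1) + 2 ≤ 2 ^ (2 * m + 1) := by
      have h1 : 2 ^ (m + 2) ≤ 2 ^ (2 * m + 1) := Nat.pow_le_pow_right (by norm_num) (by omega)
      have h2 : 2 ≤ 2 ^ (m + 1) := Nat.le_self_pow (by omega) 2
      rw [pow_succ _ (m + 1)] at h1
      omega
    rw [pow_succ _ (2 * m + 1)]
    omega
  rcases (Nat.Prime.dvd_mul (by norm_num)).1 h5 with h | h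
  · obtain ⟨a, ha, hAa⟩ := exists_pow_of_prime_dvd h1 (by norm_num) h
    refine hsmall a ?_ ha (hAa ▸ hlt1)
    rw [← hAa, hA, Nat.add_sub_cancel, hY]
    exact Nat.dvd_add (dvd_mul_right _ _) dvd_rfl
  · obtain ⟨a, ha, hBa⟩ := exists_pow_of_prime_dvd h2 (by norm_num) h
    refine hsmall a ?_ ha (lt_of_le_of_lt (show 5 ^ a ≤ 2 ^ (2 * m + 1) + 2 ^ (m + 1) + 1 by
      rw [← hBa, hB]
      generalize 2 ^ (2 * m + 1) = X
      generalize 2 ^ (m + 1) = Y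
      omega) hlt1)
    rw [← hBa, hB, Nat.add_sub_cancel, hY]
    exact Nat.dvd_sub (dvd_mul_right _ _) dvd_rfl

end Cfsg.Agent.H70.Eppo
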