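import Cfsg.Agent.H70.Eppo.Simple
import Cfsg.Agent.H65.CIT.CNStructure
import Cfsg.Agent.Hall.ThreePrimes

/-!
Prime divisors of groups in which all element orders are prime powers.
-/

set_option autoImplicit false
set_option linter.style.haveILetI false

namespace Cfsg.Agent.H70.Eppo

open Subgroup

universe u

/-- The conclusion of the four primes theorem for a simple group. -/
def FourType (G : Type*) [Group G] : Prop :=
  (∃ (F : Type) (_ : Field F) (_ : Fintype F), Fintype.card F = 4 ∧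
    Nonempty (G ≃* Matrix.ProjectiveSpecialLinearGroup (Fin 3) F)) ∨
  (∃ (F : Type) (_ : Field F) (_ : Fintype F),
    (Fintype.card F = 8 ∧ Nonempty (G ≃* ↥(Cfsg.Lie.Sz F 4))) ∨
    (Fintype.card F = 32 ∧ Nonempty (G ≃* ↥(Cfsg.Lie.Sz F 8))))

theorem card_psl_three_four {F : Type} [Field F] [Fintype F] (h : Fintype.card F = 4) :
    Nat.card (Matrix.ProjectiveSpecialLinearGroup (Fin 3) F) = 20160 := by
  have := Linear.card_PSL_mul (F := F) 3 (by norm_num)
  rw [h, Fin.prod_univ_three] at this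
  norm_num at this
  omega

theorem mem_of_dvd_prod {r a b : ℕ} (hr : r.Prime) (hb : b.Prime) (h : r ∣ b ^ a) : r = b :=
  (Nat.prime_dvd_prime_iff_eq hr hb).1 (hr.dvd_of_dvd_pow h)

/-- The prime divisors of a simple group with all element orders prime powers. -/
theorem simple_primes {G : Type u} [Group G] [Finite G] [IsSimpleGroup G] (hG : ¬ IsMulCommutative G)
    (h : IsEPPO G) :
    2 ∣ Nat.card G ∧ ((Nat.card G).primeFactors.card ≤ 3 ∨
      ((Nat.card G).primeFactors.card ≤ 4 ∧ FourType G)) := by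
  classical
  have key : ∀ (N : ℕ) (S : Finset ℕ), (∀ r, r.Prime → r ∣ N → r ∈ S) → N.primeFactors.card ≤ S.card :=
    fun N S hS => Finset.card_le_card fun r hr =>
      hS r (Nat.prime_of_mem_primeFactors hr) (Nat.dvd_of_mem_primeFactors hr)
  have p2 := Nat.prime_two
  have p3 := Nat.prime_three
  have p5 : Nat.Prime 5 := by norm_num
  have p7 : Nat.Prime 7 := by norm_num
  have p13 : Nat.Prime 13 := by norm_num
  have p17 : Nat.Prime 17 := by norm_num
  have p31 : Nat.Prime 31 := by norm_num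
  have p41 : Nat.Prime 41 := by norm_num
  have three : ∀ a b c x y z : ℕ, b.Prime → c.Prime → Nat.card G = 2 ^ (x + 1) * b ^ y * c ^ z →
      a = 2 → 2 ∣ Nat.card G ∧ (Nat.card G).primeFactors.card ≤ 3 := by
    intro a b c x y z hb hc hcard ha
    refine ⟨hcard ▸ dvd_mul_of_dvd_left (dvd_mul_of_dvd_left (dvd_pow_self 2 (by omega)) _) _,
      (key _ {2, b, c} fun r hr hd => ?_).trans Finset.card_le_three⟩
    rw [hcard] at hd
    simp only [Finset.mem_insert, Finset.mem_singleton]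
    rcases hr.dvd_mul.1 hd with h' | h'
    · rcases hr.dvd_mul.1 h' with h'' | h''
      · exact Or.inl (mem_of_dvd_prod hr p2 h'')
      · exact Or.inr (Or.inl (mem_of_dvd_prod hr hb h''))
    · exact Or.inr (Or.inr (mem_of_dvd_prod hr hc h'))
  have four : ∀ b c d x y z w : ℕ, b.Prime → c.Prime → d.Prime →
      Nat.card G = 2 ^ (x + 1) * b ^ y * c ^ z * d ^ w →
      2 ∣ Nat.card G ∧ (Nat.card G).primeFactors.card ≤ 4 := by
    intro b c d x y z w hb hc hd hcard
    refine ⟨hcard ▸ dvd_mul_of_dvd_left (dvd_mul_of_dvd_left (dvd_mul_of_dvd_left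
      (dvd_pow_self 2 (by omega)) _) _) _,
      (key _ {2, b, c, d} fun r hr hdv => ?_).trans Finset.card_le_four⟩
    rw [hcard] at hdv
    simp only [Finset.mem_insert, Finset.mem_singleton]
    rcases hr.dvd_mul.1 hdv with h' | h'
    · rcases hr.dvd_mul.1 h' with h'' | h''
      · rcases hr.dvd_mul.1 h'' with h3 | h3
        · exact Or.inl (mem_of_dvd_prod hr p2 h3)
        · exact Or.inr (Or.inl (mem_of_dvd_prod hr hb h3))
      · exact Or.inr (Or.inr (Or.inl (mem_of_dvd_prod hr hc h'')))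
    · exact Or.inr (Or.inr (Or.inr (mem_of_dvd_prod hr hd h')))
  rcases classification hG h with ⟨⟨e⟩⟩ | ⟨F, _, _, hF, ⟨e⟩⟩ | h34 | hsz
  · have hc : Nat.card G = 2 ^ (2 + 1) * 3 ^ 2 * 5 ^ 1 := by
      rw [Nat.card_congr e.toEquiv, nat_card_alternatingGroup, Nat.card_fin]; norm_num [Nat.factorial]
    exact (three 2 3 5 _ _ _ p3 p5 hc rfl).imp_right Or.inl
  · have hc := Linear.card_PSL_two_mul (F := F)
    rw [← Nat.card_congr e.toEquiv] at hc
    simp only [Finset.mem_insert, Finset.mem_singleton] at hF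
    rcases hF with hq | hq | hq | hq <;> rw [hq] at hc <;> norm_num at hc
    · exact (three 2 3 5 1 1 1 p3 p5 (by norm_num; omega) rfl).imp_right Or.inl
    · exact (three 2 3 7 2 1 1 p3 p7 (by norm_num; omega) rfl).imp_right Or.inl
    · exact (three 2 3 7 2 2 1 p3 p7 (by norm_num; omega) rfl).imp_right Or.inl
    · exact (three 2 3 17 3 2 1 p3 p17 (by norm_num; omega) rfl).imp_right Or.inl
  · obtain ⟨F, iF, iFt, hF, ⟨e⟩⟩ := h34
    have hc : Nat.card G = 2 ^ (5 + 1) * 3 ^ 2 * 5 ^ 1 * 7 ^ 1 := by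
      rw [Nat.card_congr e.toEquiv, card_psl_three_four hF]; norm_num
    exact (four _ _ _ _ _ _ _ p3 p5 p7 hc).imp_right fun hh =>
      Or.inr ⟨hh, Or.inl ⟨F, iF, iFt, hF, ⟨e⟩⟩⟩
  · obtain ⟨F, iF, iFt, hF⟩ := hsz
    rcases hF with ⟨hF, ⟨e⟩⟩ | ⟨hF, ⟨e⟩⟩
    · haveI : Suzuki.SzField F 1 := ⟨hF, le_rfl⟩
      have e' : G ≃* ↥(Cfsg.Lie.Sz F (2 ^ (1 + 1))) := e
      have hc : Nat.card G = 2 ^ (5 + 1) * 5 ^ 1 * 7 ^ 1 * 13 ^ 1 := by
        rw [Nat.card_congr e'.toEquiv, Suzuki.card_lieSz, Nat.card_eq_fintype_card, hF]; norm_num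
      exact (four _ _ _ _ _ _ _ p5 p7 p13 hc).imp_right fun hh =>
        Or.inr ⟨hh, Or.inr ⟨F, iF, iFt, Or.inl ⟨hF, ⟨e⟩⟩⟩⟩
    · haveI : Suzuki.SzField F 2 := ⟨hF, by norm_num⟩
      have e' : G ≃* ↥(Cfsg.Lie.Sz F (2 ^ (2 + 1))) := e
      have hc : Nat.card G = 2 ^ (9 + 1) * 5 ^ 2 * 31 ^ 1 * 41 ^ 1 := by
        rw [Nat.card_congr e'.toEquiv, Suzuki.card_lieSz, Nat.card_eq_fintype_card, hF]; norm_num
      exact (four _ _ _ _ _ _ _ p5 p31 p41 hc).imp_right fun hh =>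
        Or.inr ⟨hh, Or.inr ⟨F, iF, iFt, Or.inr ⟨hF, ⟨e⟩⟩⟩⟩

/-- The centralisers of a group with all element orders prime powers are nilpotent. -/
theorem isCN_of_eppo {G : Type u} [Group G] [Finite G] (h : IsEPPO G) (x : G) (hx : x ≠ 1) :
    Group.IsNilpotent (Subgroup.centralizer ({x} : Set G)) := by
  obtain ⟨p, k, hp, hk, hpk⟩ := (isPrimePow_nat_iff _).1 (h x hx)
  haveI : Fact p.Prime := ⟨hp⟩
  refine IsPGroup.isNilpotent (p := p) fun c => ?_
  have hcx : Commute (c : G) x := Subgroup.mem_centralizer_singleton_iff.1 c.2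
  rcases eq_or_ne c 1 with rfl | hc
  · exact ⟨0, one_pow _⟩
  obtain ⟨r, j, hr, hj, hrj⟩ := (isPrimePow_nat_iff _).1
    (h (c : G) (fun e => hc (Subtype.ext e)))
  refine ⟨j, ?_⟩
  suffices hrp : r = p by
    subst hrp
    exact Subtype.ext (by rw [SubmonoidClass.coe_pow, hrj, pow_orderOf_eq_one]; rfl)
  by_contra hne
  have hco : (orderOf x).Coprime (orderOf (c : G)) := by
    rw [← hpk, ← hrj]
    exact Nat.Coprime.pow _ _ ((Nat.coprime_primes hp hr).2 (Ne.symm hne))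
  have ho := hcx.symm.orderOf_mul_eq_mul_orderOf_of_coprime hco
  exact hne ((h.pp (g := x * c) dvd_rfl).eq_of_dvd hr hp
    (ho ▸ (hrj ▸ dvd_pow_self r hj.ne').mul_left _) (ho ▸ (hpk ▸ dvd_pow_self p hk.ne').mul_right _))

theorem IsEPPO.quotient {G : Type u} [Group G] [Finite G] (h : IsEPPO G) (N : Subgroup G) [N.Normal] :
    IsEPPO (G ⧸ N) := by
  intro x hx
  obtain ⟨g, rfl⟩ := QuotientGroup.mk_surjective x
  rcases h.pp (g := g) (orderOf_map_dvd (QuotientGroup.mk' N) g) with h1 | h1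
  · exact absurd (orderOf_eq_one_iff.1 h1) hx
  · exact h1

/-- At most four primes. -/
theorem four_primes {G : Type u} [Group G] [Finite G] (h : IsEPPO G) :
    (Nat.card G).primeFactors.card ≤ 4 ∧
    ((Nat.card G).primeFactors.card = 4 →
      (∃ (F : Type) (_ : Field F) (_ : Fintype F), Fintype.card F = 4 ∧
        Nonempty (G ≃* Matrix.ProjectiveSpecialLinearGroup (Fin 3) F)) ∨
      (∃ (N : Subgroup G) (_ : N.Normal), IsPGroup 2 ↥N ∧
        ∃ (F : Type) (_ : Field F) (_ : Fintype F),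
          (Fintype.card F = 8 ∧ Nonempty (G ⧸ N ≃* ↥(Cfsg.Lie.Sz F 4))) ∨
          (Fintype.card F = 32 ∧ Nonempty (G ⧸ N ≃* ↥(Cfsg.Lie.Sz F 8))))) := by
  classical
  suffices H : (Nat.card G).primeFactors.card ≤ 3 ∨ ((Nat.card G).primeFactors.card ≤ 4 ∧
      ((∃ (F : Type) (_ : Field F) (_ : Fintype F), Fintype.card F = 4 ∧
        Nonempty (G ≃* Matrix.ProjectiveSpecialLinearGroup (Fin 3) F)) ∨
      (∃ (N : Subgroup G) (_ : N.Normal), IsPGroup 2 ↥N ∧
        ∃ (F : Type) (_ : Field F) (_ : Fintype F),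
          (Fintype.card F = 8 ∧ Nonempty (G ⧸ N ≃* ↥(Cfsg.Lie.Sz F 4))) ∨
          (Fintype.card F = 32 ∧ Nonempty (G ⧸ N ≃* ↥(Cfsg.Lie.Sz F 8)))))) by
    rcases H with H | ⟨H1, H2⟩
    · exact ⟨by omega, fun e => absurd e (by omega)⟩
    · exact ⟨H1, fun _ => H2⟩
  by_cases hsol : Group.IsSolvable G
  · left
    by_contra hlt
    obtain ⟨ρ, hρ, hρc⟩ := Finset.exists_subset_card_eq
      (show 3 ≤ (Nat.card G).primeFactors.card by omega)
    refine Hall.three_primes_false (G := G) ρ hρc.ge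
      (fun r hr => ⟨Nat.prime_of_mem_primeFactors (hρ hr), Nat.dvd_of_mem_primeFactors (hρ hr)⟩) ?_
    rintro r hr s hs hne ⟨x, hx⟩
    exact hne ((h.pp (g := x) dvd_rfl).eq_of_dvd (Nat.prime_of_mem_primeFactors (hρ hr))
      (Nat.prime_of_mem_primeFactors (hρ hs)) (hx ▸ dvd_mul_right r s) (hx ▸ dvd_mul_left s r))
  rcases H65.CIT.cn_structure hsol (isCN_of_eppo h) with ⟨hs, hna⟩ |
      ⟨N, hN, hidx, F, _, _, hF, ⟨e⟩⟩ | ⟨N, hN, hne, hN2, hsim, hQ⟩
  · haveI := hs
    rcases (simple_primes hna h).2 with h3 | ⟨h4, h34 | ⟨F, iF, iFt, hsz⟩⟩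
    · exact Or.inl h3
    · exact Or.inr ⟨h4, Or.inl h34⟩
    · refine Or.inr ⟨h4, Or.inr ⟨⊥, inferInstance, IsPGroup.of_bot, F, iF, iFt, ?_⟩⟩
      exact hsz.imp (And.imp_right fun ⟨e⟩ => ⟨QuotientGroup.quotientBot.trans e⟩)
        (And.imp_right fun ⟨e⟩ => ⟨QuotientGroup.quotientBot.trans e⟩)
  · left
    have hc := Linear.card_PSL_two_mul (F := F)
    rw [hF, ← Nat.card_congr e.toEquiv] at hc
    norm_num at hc
    have hG : Nat.card G = 2 ^ 4 * 3 ^ 2 * 5 ^ 1 := by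
      rw [← N.card_mul_index, hidx]; omega
    rw [hG]
    calc _ ≤ ({2, 3, 5} : Finset ℕ).card := Finset.card_le_card fun r hr => by
          have hrp := Nat.prime_of_mem_primeFactors hr
          simp only [Finset.mem_insert, Finset.mem_singleton]
          rcases hrp.dvd_mul.1 (Nat.dvd_of_mem_primeFactors hr) with h' | h'
          · rcases hrp.dvd_mul.1 h' with h'' | h''
            · exact Or.inl (mem_of_dvd_prod hrp Nat.prime_two h'')
            · exact Or.inr (Or.inl (mem_of_dvd_prod hrp Nat.prime_three h''))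
          · exact Or.inr (Or.inr (mem_of_dvd_prod hrp (by norm_num) h'))
      _ ≤ 3 := Finset.card_le_three
  · haveI := hN
    haveI := hsim
    haveI : Fact (Nat.Prime 2) := ⟨Nat.prime_two⟩
    obtain ⟨k, hk⟩ := IsPGroup.iff_card.1 hN2
    have hcard : Nat.card G = Nat.card (G ⧸ N) * 2 ^ k := by
      rw [N.card_eq_card_quotient_mul_card_subgroup, hk]
    have hna : ¬ IsMulCommutative (G ⧸ N) := fun hc => by
      refine hsol ?_
      haveI : Group.IsSolvable ↥N := by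
        haveI := hN2.isNilpotent
        infer_instance
      haveI : Group.IsSolvable (G ⧸ N) := Group.isSolvable_of_comm fun a b => hc.is_comm.comm a b
      exact Group.isSolvable_of_ker_le_range N.subtype (QuotientGroup.mk' N)
        (by rw [QuotientGroup.ker_mk', Subgroup.range_subtype])
    obtain ⟨h2, hp⟩ := simple_primes hna (h.quotient N)
    have hsame : (Nat.card G).primeFactors = (Nat.card (G ⧸ N)).primeFactors := by
      rw [hcard, Nat.primeFactors_mul Nat.card_pos.ne' (by positivity)]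
      refine Finset.union_eq_left.2 fun r hr => ?_
      obtain rfl := mem_of_dvd_prod (Nat.prime_of_mem_primeFactors hr) Nat.prime_two
        (Nat.dvd_of_mem_primeFactors hr)
      exact Nat.mem_primeFactors.2 ⟨Nat.prime_two, h2, Nat.card_pos.ne'⟩
    rw [hsame]
    rcases hp with h3 | ⟨h4, ⟨F, _, _, hF, ⟨e⟩⟩ | ⟨F, iF, iFt, hsz⟩⟩
    · exact Or.inl h3
    · exfalso
      have hc : Nat.card (G ⧸ N) = 20160 := by
        rw [Nat.card_congr e.toEquiv, card_psl_three_four hF]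
      rcases hQ with ⟨-, -, K, _, _, hchar, h4K, ⟨e'⟩⟩ | ⟨-, m, hm, hcm⟩
      · have hk' := Linear.card_PSL_two_mul (F := K)
        rw [← Nat.card_congr e'.toEquiv, hc] at hk'
        obtain ⟨n, -, hn⟩ := FiniteField.card K 2
        have hev : 2 ∣ Fintype.card K := hn ▸ dvd_pow_self 2 n.pos.ne'
        have hg : Nat.gcd 2 (Fintype.card K - 1) = 1 := by
          rw [← Nat.coprime_iff_gcd_eq_one, Nat.Prime.coprime_iff_not_dvd Nat.prime_two]
          omega
        rw [hg, one_mul, hn] at hk'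
        rcases Nat.lt_or_ge (n : ℕ) 6 with hlt | hge
        · interval_cases hn' : (n : ℕ) <;> norm_num at hk'
        · have : 2 ^ 6 ≤ 2 ^ (n : ℕ) := Nat.pow_le_pow_right (by norm_num) hge
          have h7 : 2 ^ 6 * ((2 ^ 6) ^ 2 - 1) ≤ 2 ^ (n : ℕ) * ((2 ^ (n : ℕ)) ^ 2 - 1) :=
            Nat.mul_le_mul this (Nat.sub_le_sub_right (Nat.pow_le_pow_left this 2) 1)
          omega
      · rw [hc] at hcm
        have h8 : 2 ^ 3 ≤ 2 ^ (2 * m + 1) := Nat.pow_le_pow_right (by norm_num) (by omega)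
        have h9 : (2 ^ 3) ^ 2 * ((2 ^ 3) ^ 2 + 1) * (2 ^ 3 - 1) ≤
            (2 ^ (2 * m + 1)) ^ 2 * ((2 ^ (2 * m + 1)) ^ 2 + 1) * (2 ^ (2 * m + 1) - 1) :=
          Nat.mul_le_mul (Nat.mul_le_mul (Nat.pow_le_pow_left h8 2)
            (Nat.add_le_add_right (Nat.pow_le_pow_left h8 2) 1)) (Nat.sub_le_sub_right h8 1)
        omega
    · exact Or.inr ⟨h4, Or.inr ⟨N, hN, hN2, F, iF, iFt, hsz⟩⟩

end Cfsg.Agent.H70.Eppo
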