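import Cfsg.Agent.H70.Eppo.Numbers
import Cfsg.Agent.H70.SzUnique.FrameSimple
import Cfsg.Agent.H65.CIT.Main
import Cfsg.Agent.H55.SLTwoClasses
import Cfsg.Agent.Suzuki.Partition
import Cfsg.Agent.Suzuki.Lie
import Cfsg.Agent.H27.SixPoints
import Cfsg.Agent.S0144
import Cfsg.Agent.S0205
import Cfsg.Agent.S0253

/-!
Simple groups in which all element orders are prime powers.
-/

set_option autoImplicit false
set_option linter.style.haveILetI false

namespace Cfsg.Agent.H70.Eppo

open Subgroup H65.CIT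

universe u

/-- All nonidentity elements have prime power order. -/
def IsEPPO (G : Type*) [Group G] : Prop := ∀ g : G, g ≠ 1 → IsPrimePow (orderOf g)

theorem IsEPPO.pp {G : Type*} [Group G] (h : IsEPPO G) {g : G} {n : ℕ} (hd : n ∣ orderOf g) :
    PP n := by
  by_cases hg : g = 1
  · left
    rw [hg, orderOf_one] at hd
    exact Nat.dvd_one.1 hd
  · exact PP.of_dvd (h g hg) hd

theorem IsEPPO.of_mulEquiv {G H : Type*} [Group G] [Group H] (e : G ≃* H) (h : IsEPPO G) :
    IsEPPO H := by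
  intro x hx
  have := h (e.symm x) (fun e1 => hx (e.symm.map_eq_one_iff.1 e1))
  rwa [e.symm.orderOf_eq] at this

theorem isSuzuki_iso_cases {G : Type u} [Group G] [Finite G] [IsSimpleGroup G]
    (hG : ∃ a b : G, a * b ≠ b * a) (hC : CIT G) (heven : Even (Nat.card G)) :
    (∃ (F : Type) (_ : Field F) (_ : Fintype F),
        (Fintype.card F = 9 ∨ (∃ n : ℕ, Fintype.card F = 2 ^ n) ∨
          ((Fintype.card F).Prime ∧ ∃ k : ℕ, Fintype.card F = 2 ^ k + 1 ∨ Fintype.card F + 1 = 2 ^ k)) ∧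
        Nonempty (G ≃* Matrix.ProjectiveSpecialLinearGroup (Fin 2) F)) ∨
    (∃ (F : Type) (_ : Field F) (_ : Fintype F), Fintype.card F = 4 ∧
        Nonempty (G ≃* Matrix.ProjectiveSpecialLinearGroup (Fin 3) F)) ∨
    Cfsg.Lie.IsoSuzuki G := by
  classical
  haveI : Fact (Nat.Prime 2) := ⟨Nat.prime_two⟩
  have hna : ¬ IsMulCommutative G := fun h => by
    obtain ⟨a, b, hab⟩ := hG
    exact hab (h.is_comm.comm a b)
  have hnotp : ¬ IsPGroup 2 G := fun hp => by
    haveI : Nontrivial G := IsSimpleGroup.toNontrivial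
    haveI := hp.center_nontrivial
    rcases (inferInstance : (center G).Normal).eq_bot_or_eq_top with hz | hz
    · exact (Subgroup.nontrivial_iff_ne_bot _).1 inferInstance hz
    · exact hna ⟨⟨fun a b => mem_center_iff.1 (hz ▸ mem_top b) a⟩⟩
  by_cases hTI : ∀ S T : Sylow 2 G, S ≠ T → (S : Subgroup G) ⊓ (T : Subgroup G) = ⊥
  · obtain ⟨S⟩ : Nonempty (Sylow 2 G) := inferInstance
    obtain ⟨T, hT⟩ : ∃ T : Sylow 2 G, S ≠ T := by
      by_contra hcon
      push Not at hcon
      haveI : Subsingleton (Sylow 2 G) := ⟨fun x y => (hcon x).symm.trans (hcon y)⟩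
      rcases (S.normal_of_subsingleton).eq_bot_or_eq_top with h | h
      · exact S.ne_bot_of_dvd_card (even_iff_two_dvd.1 heven) h
      · exact hnotp fun x => (pow_two_of_mem S.2 (h.symm ▸ mem_top x)).imp fun _ hk => hk
    have hodd : Cfsg.oddCore G = ⊥ := by
      haveI : (Cfsg.oddCore G).Characteristic := Cores.pPrimeCore_characteristic
      refine (inferInstance : (Cfsg.oddCore G).Normal).eq_bot_or_eq_top.resolve_right fun h => ?_
      have ho := Cores.odd_card_oddCore (G := G)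
      rw [h, Subgroup.card_top] at ho
      exact Nat.not_even_iff_odd.2 ho heven
    obtain ⟨F, -⟩ := exists_frame hC hodd hTI S T hT
    rcases (SzUnique.classification_of_frame F).2 with ⟨n, hn, he⟩ | h
    · haveI : Fintype (GaloisField 2 n) := Fintype.ofFinite _
      refine Or.inl ⟨GaloisField 2 n, inferInstance, inferInstance, Or.inr (Or.inl ⟨n, ?_⟩), he⟩
      rw [← Nat.card_eq_fintype_card, GaloisField.card 2 n (by omega)]
    · exact Or.inr (Or.inr h)
  push Not at hTI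
  have hO : Cfsg.pCore 2 G = ⊥ := by
    refine (inferInstance : (Cfsg.pCore 2 G).Normal).eq_bot_or_eq_top.resolve_right fun h => hnotp ?_
    intro x
    obtain ⟨k, hk⟩ := (Cores.pCore_isPGroup (p := 2) (G := G)) ⟨x, h ▸ mem_top x⟩
    exact ⟨k, congrArg Subtype.val hk⟩
  have hL := loc_of hC hO
  obtain ⟨A⟩ := hL.exists_amalgam hTI
  have hq4 := hL.q_le_four A
  have hq2 := A.two_le
  obtain ⟨k, hk⟩ := IsPGroup.iff_card.1 A.hT₁.2.1
  rw [A.cardT] at hk
  obtain hq | hq : A.q = 2 ∨ A.q = 4 := by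
    rcases Nat.lt_or_ge A.q 3 with h | h
    · exact Or.inl (by omega)
    rcases Nat.lt_or_ge A.q 4 with h' | h'
    · exfalso
      have h3 : A.q = 3 := by omega
      rw [h3] at hk
      have hodd : Odd ((3 : ℕ) ^ 3) := by decide
      rw [hk] at hodd
      rcases Nat.eq_zero_or_pos k with rfl | hk0
      · norm_num at hk
      · exact absurd (even_iff_two_dvd.2 (dvd_pow_self 2 hk0.ne')) (Nat.not_even_iff_odd.2 hodd)
    · exact Or.inr (by omega)
  · obtain ⟨F, iF, iFt, hF, he⟩ := A.psl_two hna hL hq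
    refine Or.inl ⟨F, iF, iFt, ?_, he⟩
    rcases hF with h | h | ⟨hp, j, h⟩
    · exact Or.inr (Or.inl ⟨2, by rw [h]; norm_num⟩)
    · exact Or.inl h
    · refine Or.inr (Or.inr ⟨hp, j, h.imp id fun h => ?_⟩)
      have := hp.two_le
      omega
  · exact Or.inr (Or.inl (A.psl_three_four hL (A.sylow_four hL hG hq) hq))

theorem cit_of_eppo {G : Type u} [Group G] [Finite G] (h : IsEPPO G) : CIT G := by
  haveI : Fact (Nat.Prime 2) := ⟨Nat.prime_two⟩
  intro t ht x
  obtain ⟨a, b, hab, -, hb, ⟨k, hk⟩, hbo⟩ := exists_two_split (x : G)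
  refine ⟨k, Subtype.ext ?_⟩
  have hbt : Commute b t := by
    obtain ⟨i, rfl⟩ := mem_zpowers_iff.1 hb
    exact (mem_cent.1 x.2).zpow_left i
  have hb1 : b = 1 := by
    by_contra hne
    have hco : (orderOf t).Coprime (orderOf b) := by
      rw [ht]; exact Nat.coprime_two_left.2 hbo
    have ho := hbt.symm.orderOf_mul_eq_mul_orderOf_of_coprime hco
    obtain ⟨p, hp, hpd⟩ := Nat.exists_prime_and_dvd (n := orderOf b)
      (fun e => hne (orderOf_eq_one_iff.1 e))
    have he := (h.pp (g := t * b) dvd_rfl).eq_of_dvd hp Nat.prime_two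
      (ho ▸ hpd.mul_left _) (ho ▸ ht.symm ▸ dvd_mul_right _ _)
    subst he
    exact Nat.not_even_iff_odd.2 hbo (even_iff_two_dvd.2 hpd)
  show (x : G) ^ (2 ^ k) = 1
  rw [hab, hb1, mul_one, hk]

theorem psl_cases {F : Type} [Field F] [Fintype F]
    (hs : IsSimpleGroup (Matrix.ProjectiveSpecialLinearGroup (Fin 2) F))
    (hna : ¬ IsMulCommutative (Matrix.ProjectiveSpecialLinearGroup (Fin 2) F))
    (h : IsEPPO (Matrix.ProjectiveSpecialLinearGroup (Fin 2) F))
    (hq : Fintype.card F = 9 ∨ (∃ n : ℕ, Fintype.card F = 2 ^ n) ∨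
      ((Fintype.card F).Prime ∧ ∃ k : ℕ, Fintype.card F = 2 ^ k + 1 ∨ Fintype.card F + 1 = 2 ^ k)) :
    Fintype.card F ∈ ({4, 5, 7, 8, 9, 17} : Finset ℕ) := by
  classical
  obtain ⟨p, hchar⟩ := CharP.exists F
  haveI : Fact p.Prime := ⟨CharP.char_is_prime F p⟩
  obtain ⟨-, ⟨y, hy⟩, ⟨z, hz⟩⟩ := H55.exists_torus_orders (F := F) p
  have h1 := h.pp hy
  have h2 := h.pp hz
  have hcard := Linear.card_PSL_two_mul (F := F)
  have hsmall : Fintype.card F ≠ 2 ∧ Fintype.card F ≠ 3 := by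
    haveI := hs
    refine ⟨fun e => ?_, fun e => ?_⟩ <;> rw [e] at hcard <;> norm_num at hcard
    · exact hna ⟨⟨fun a b => IsSimpleGroup.comm_iff_isSolvable.mpr
        (S0144.result 2 3 1 1 Nat.prime_two Nat.prime_three (by rw [Nat.card_eq_fintype_card]; omega)) a b⟩⟩
    · exact hna ⟨⟨fun a b => IsSimpleGroup.comm_iff_isSolvable.mpr
        (S0144.result 2 3 2 1 Nat.prime_two Nat.prime_three (by rw [Nat.card_eq_fintype_card]; omega)) a b⟩⟩
  have h2le := Fintype.one_lt_card (α := F)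
  simp only [Finset.mem_insert, Finset.mem_singleton]
  rcases hq with h9 | ⟨n, hn⟩ | ⟨hp, k, hk⟩
  · omega
  · have hn2 : 2 ≤ n := by
      by_contra hlt
      interval_cases n <;> omega
    have hev : 2 ∣ 2 ^ n := dvd_pow_self 2 (by omega)
    have hg : Nat.gcd 2 (Fintype.card F - 1) = 1 := by
      rw [← Nat.coprime_iff_gcd_eq_one, Nat.Prime.coprime_iff_not_dvd Nat.prime_two]
      omega
    rw [hg, Nat.div_one, hn] at h1 h2
    rcases both_two_pow hn2 h1 h2 with rfl | rfl <;> omega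
  · rcases hk with hk | hk
    · obtain ⟨j, rfl⟩ : ∃ j, k = j + 1 := Nat.exists_eq_succ_of_ne_zero (fun e => by
        subst e; rw [pow_zero] at hk; exact hsmall.1 hk)
      rw [hk] at h2 hp hsmall ⊢
      have hg : Nat.gcd 2 (2 ^ (j + 1) + 1 - 1) = 2 := Nat.gcd_eq_left (by
        rw [Nat.add_sub_cancel]; exact dvd_pow_self 2 (by omega))
      rw [hg, show (2 ^ (j + 1) + 1 + 1) / 2 = 2 ^ (j + 1 - 1) + 1 by
        rw [Nat.add_sub_cancel, pow_succ]; omega] at h2
      rcases fermat hp h2 with h' | h'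
      · have : j = 0 ∨ j = 1 := by omega
        rcases this with rfl | rfl  <;> norm_num at hsmall <;> norm_num
      · obtain rfl : j = 3 := by omega
        norm_num
    · have hk' : Fintype.card F = 2 ^ k - 1 := by omega
      rw [hk'] at h1 hp hsmall ⊢
      obtain ⟨j, rfl⟩ : ∃ j, k = j + 2 := ⟨k - 2, by
        have : 2 ≤ k := by
          by_contra hlt
          interval_cases k <;> omega
        omega⟩
      have h4 : 2 ^ (j + 2) = 4 * 2 ^ j := by rw [pow_add]; ring
      have := Nat.one_le_two_pow (n := j)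
      have hg : Nat.gcd 2 (2 ^ (j + 2) - 1 - 1) = 2 := Nat.gcd_eq_left (by omega)
      rw [hg, show (2 ^ (j + 2) - 1 - 1) / 2 = 2 ^ (j + 2 - 1) - 1 by
        rw [show j + 2 - 1 = j + 1 by omega, pow_succ]; omega] at h1
      rcases mersenne hp h1 with h' | h'
      · obtain rfl : j = 0 := by omega
        norm_num at hsmall
      · obtain rfl : j = 1 := by omega
        norm_num

theorem suzuki_cases {F : Type} [Field F] [Fintype F] (m : ℕ) [Suzuki.SzField F m]
    (h : IsEPPO (Cfsg.Sz F m)) : m = 1 ∨ m = 2 := by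
  obtain ⟨-, ⟨g₁, hg₁, hc₁⟩, ⟨g₂, hg₂, hc₂⟩⟩ := Suzuki.torus_classes (F := F) m
  have key : ∀ g : Cfsg.Sz F m, Suzuki.FixFree m g →
      PP (Nat.card (Subgroup.centralizer ({g} : Set (Cfsg.Sz F m)))) := by
    intro g hg
    obtain ⟨x, hx⟩ := (Suzuki.centralizer_cyclic m hg).exists_ofOrder_eq_natCard
    refine h.pp (g := (x : Cfsg.Sz F m)) ?_
    rw [Subgroup.orderOf_coe, hx]
  have h1 := key g₁ hg₁
  have h2 := key g₂ hg₂
  rw [hc₁] at h1
  rw [hc₂] at h2
  exact suzuki (Suzuki.SzField.pos F) h1 h2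

/-- Simple groups with all element orders prime powers. -/
theorem classification {G : Type u} [Group G] [Finite G] [IsSimpleGroup G] (hG : ¬ IsMulCommutative G)
    (h : IsEPPO G) :
    Nonempty (G ≃* alternatingGroup (Fin 6)) ∨
    (∃ (F : Type) (_ : Field F) (_ : Fintype F), Fintype.card F ∈ ({4, 7, 8, 17} : Finset ℕ) ∧
      Nonempty (G ≃* Matrix.ProjectiveSpecialLinearGroup (Fin 2) F)) ∨
    (∃ (F : Type) (_ : Field F) (_ : Fintype F), Fintype.card F = 4 ∧
      Nonempty (G ≃* Matrix.ProjectiveSpecialLinearGroup (Fin 3) F)) ∨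
    (∃ (F : Type) (_ : Field F) (_ : Fintype F),
      (Fintype.card F = 8 ∧ Nonempty (G ≃* ↥(Cfsg.Lie.Sz F 4))) ∨ (Fintype.card F = 32 ∧ Nonempty (G ≃* ↥(Cfsg.Lie.Sz F 8)))) := by
  classical
  have hG' : ∃ a b : G, a * b ≠ b * a := by
    by_contra hcon
    push Not at hcon
    exact hG ⟨⟨hcon⟩⟩
  have heven : Even (Nat.card G) := Nat.not_odd_iff_even.1 fun ho => hG
    ⟨⟨fun a b => IsSimpleGroup.comm_iff_isSolvable.mpr (S0205.result ho) a b⟩⟩
  rcases isSuzuki_iso_cases hG' (cit_of_eppo h) heven with ⟨F, iF, iFt, hq, ⟨e⟩⟩ | h3 | hsz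
  · have hs : IsSimpleGroup (Matrix.ProjectiveSpecialLinearGroup (Fin 2) F) :=
      MulEquiv.isSimpleGroup e.symm
    have hna : ¬ IsMulCommutative (Matrix.ProjectiveSpecialLinearGroup (Fin 2) F) := fun hc =>
      hG ⟨⟨fun a b => e.injective (by rw [map_mul, map_mul, hc.is_comm.comm])⟩⟩
    have hm := psl_cases hs hna (h.of_mulEquiv e) hq
    simp only [Finset.mem_insert, Finset.mem_singleton] at hm
    by_cases h9 : Fintype.card F = 9
    · obtain ⟨e'⟩ := H27.SixPoints.psl_two_nine' h9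
      exact Or.inl ⟨e.trans e'⟩
    refine Or.inr (Or.inl ?_)
    by_cases h5 : Fintype.card F = 5
    · haveI : Fintype (GaloisField 2 2) := Fintype.ofFinite _
      have h4 : Fintype.card (GaloisField 2 2) = 4 := by
        rw [← Nat.card_eq_fintype_card, GaloisField.card 2 2 (by norm_num)]; norm_num
      refine ⟨GaloisField 2 2, inferInstance, inferInstance, by simp [h4], ?_⟩
      obtain ⟨e5⟩ := S0253.result h5
      obtain ⟨e4⟩ := psl_two_four h4
      exact ⟨(e.trans e5).trans e4.symm⟩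
    · refine ⟨F, iF, iFt, ?_, ⟨e⟩⟩
      simp only [Finset.mem_insert, Finset.mem_singleton]
      omega
  · exact Or.inr (Or.inr (Or.inl h3))
  · obtain ⟨F, iF, iFt, m, hm, hF, ⟨e⟩⟩ := hsz
    haveI : Suzuki.SzField F m := ⟨hF, hm⟩
    have hm' := suzuki_cases m (h.of_mulEquiv (e.trans (Suzuki.lieEquiv m).symm))
    refine Or.inr (Or.inr (Or.inr ⟨F, iF, iFt, ?_⟩))
    rcases hm' with rfl | rfl
    · exact Or.inl ⟨by simpa using hF, ⟨e⟩⟩
    · exact Or.inr ⟨by simpa using hF, ⟨e⟩⟩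
where
  psl_two_four {F : Type} [Field F] [Fintype F] (hF : Fintype.card F = 4) :
      Nonempty (Matrix.ProjectiveSpecialLinearGroup (Fin 2) F ≃* alternatingGroup (Fin 5)) := by
    have h := Linear.card_PSL_two_mul (F := F)
    rw [hF] at h
    norm_num at h
    exact H27.ProjLine.psl_two_equiv_alternating (n := 5) (by rw [hF]) (by
      rw [h]; rfl)

end Cfsg.Agent.H70.Eppo
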